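import Groth.Agent.CohDim.K537.Rank
import Groth.Agent.Localalg.LichtAsm

/-!
# The assembly of `q(P^n - Y) = n - s - 1` (characteristic `p`, Cohen-Macaulay)
-/

set_option autoImplicit false

universe u

open CategoryTheory CategoryTheory.Limits AlgebraicGeometry TopologicalSpace

namespace K537.Assemble

open Groth.Agent Groth.Agent.CurvesC K537.FrobIdeal

/-- Finiteness for the line bundles `O(-m)`, from the vanishing of `H^a(P, I(-c))` and formal duality. -/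
theorem finite_twist (k : Type u) [Field k] [IsAlgClosed k] (n : ℕ) (p : ℕ) [Fact p.Prime] [CharP k p]
    (𝓘 : (CohB1.ProjSpace n k).IdealSheafData) (s : ℕ) (hs : s + 1 ≤ n)
    (U : (CohB1.ProjSpace n k).Opens)
    (hvan : ∃ c₀ : ℕ, ∀ c : ℕ, c₀ ≤ c → ∀ a : ℕ, a ≤ s →
      Subsingleton (Coh.HH (CohB1.ProjSpace n k)
        ((Dual3.idealMul 𝓘).obj (Twist.twistProjSpace n k (-(c : ℤ)))) a))
    (dual : ∀ (J : ℕ → (CohB1.ProjSpace n k).IdealSheafData) (hJ : ∀ {a b : ℕ}, a ≤ b → J b ≤ J a)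
      (_ : ∀ N : ℕ, ∃ e : ℕ, J e ≤ 𝓘 ^ N) (_ : ∀ e : ℕ, ∃ N : ℕ, 𝓘 ^ N ≤ J e)
      (l : ℤ) (a : ℕ) (_ : a ≤ n) (B : ℕ)
      (_ : ∀ e : ℕ, ∃ (e' : ℕ) (h : e ≤ e'), Module.finrank k (LinearMap.range
        (HV.map k (Dual.H367.IdMul.tr (hJ h) (Twist.twistProjSpace n k l)) a)) ≤ B),
      Module.Finite k (Coh.HH (U : Scheme.{u})
        ((Twist.twistProjSpace n k (-l - ((n : ℤ) + 1))).restrict U.ι) (n - a)))
    (m i : ℕ) (hi : n - s - 1 < i) (hin : i ≤ n) :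
    Module.Finite k (Coh.HH (U : Scheme.{u}) ((Twist.twistProjSpace n k (-(m : ℤ))).restrict U.ι) i) := by
  have hP : FrobSch.IsCharP (CohB1.ProjSpace n k) p :=
    FrobSch.IsCharP.of_hom (CohB1.ProjSpace n k ↘ Spec (CommRingCat.of k)) p
  have hprop : IsProper (CohB1.ProjSpace n k ↘ Spec (CommRingCat.of k)) := Ega3B.ProjProper.isProper_toSpec n k
  have hN : IsNoetherian (CohB1.ProjSpace n k) :=
    Localalg.LichtAsm.isNoetherian (CohB1.ProjSpace n k ↘ Spec (CommRingCat.of k))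
  obtain ⟨c₀, hc₀⟩ := hvan
  obtain ⟨B, hB⟩ := Rank.rank_bound (k := k) p 𝓘 ((m : ℤ) - ((n : ℤ) + 1)) (n - i) c₀
    (fun c hc => hc₀ c hc _ (by omega))
  have h := dual (fun e => frobIdeal p e 𝓘) (anti p 𝓘) (exists_le_pow p 𝓘) (exists_pow_le p 𝓘)
    ((m : ℤ) - ((n : ℤ) + 1)) (n - i) (Nat.sub_le _ _) B hB
  have h1 : -((m : ℤ) - ((n : ℤ) + 1)) - ((n : ℤ) + 1) = -(m : ℤ) := by ring
  have h2 : n - (n - i) = i := by omega
  rw [h1, h2] at h
  exact h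

end K537.Assemble
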