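import Groth.Agent.CohDim.K537.Ops
import Groth.Prelude.Def_Frob
import Mathlib.AlgebraicGeometry.IdealSheaf.Basic

/-!
# Frobenius powers of ideal sheaves, and the operators on `I^[q] O(l)`
-/

set_option autoImplicit false

universe u

open CategoryTheory CategoryTheory.Limits AlgebraicGeometry TopologicalSpace Opposite TopCat

noncomputable section

namespace K537.FrobIdeal

open Groth.Agent K537.Lift K537.Ops K537.PBasis

section Ring

variable {R S : Type u} [CommRing R] [CommRing S] (p : ℕ) [Fact p.Prime]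

/-- The `p^e`-th power map of a ring with `p = 0`. -/
def fr (h : (p : R) = 0) : ℕ → R →+* R
  | 0 => RingHom.id R
  | e + 1 => (FrobSch.powHom p R h).comp (fr h e)

theorem fr_apply (h : (p : R) = 0) (e : ℕ) (r : R) : fr p h e r = r ^ p ^ e := by
  induction e with
  | zero => rw [pow_zero, pow_one]; rfl
  | succ e ih =>
    change (fr p h e r) ^ p = _
    rw [ih, ← pow_mul, pow_succ]

theorem map_comp_fr (h : (p : R) = 0) (h' : (p : S) = 0) (e : ℕ) (φ : R →+* S) (I : Ideal R) :
    (I.map (fr p h e)).map φ = (I.map φ).map (fr p h' e) := by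
  rw [Ideal.map_map, Ideal.map_map]
  congr 1
  ext r
  rw [RingHom.comp_apply, RingHom.comp_apply, fr_apply, fr_apply, map_pow]

end Ring

variable {X : Scheme.{u}} (p : ℕ) [Fact p.Prime] [FrobSch.IsCharP X p]

/-- The Frobenius power `I^[p^e]`. -/
def frobIdeal (e : ℕ) (I : X.IdealSheafData) : X.IdealSheafData where
  ideal U := (I.ideal U).map (fr p (FrobSch.natCast_eq_zero_app X p U.1) e)
  map_ideal_basicOpen U f := by
    refine (map_comp_fr p _ (FrobSch.natCast_eq_zero_app X p (X.affineBasicOpen f).1) e _ (I.ideal U)).trans ?_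
    exact congrArg (fun J => Ideal.map (fr p (FrobSch.natCast_eq_zero_app X p (X.affineBasicOpen f).1) e) J)
      (I.map_ideal_basicOpen U f)

theorem frobIdeal_ideal (e : ℕ) (I : X.IdealSheafData) (U : X.affineOpens) :
    (frobIdeal p e I).ideal U = (I.ideal U).map (fr p (FrobSch.natCast_eq_zero_app X p U.1) e) := rfl

theorem pow_mem (e : ℕ) (I : X.IdealSheafData) (U : X.affineOpens) {f : Γ(X, U.1)} (hf : f ∈ I.ideal U) :
    f ^ p ^ e ∈ (frobIdeal p e I).ideal U := by
  rw [← fr_apply p (FrobSch.natCast_eq_zero_app X p U.1)]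
  exact Ideal.mem_map_of_mem _ hf

theorem frobIdeal_le {e : ℕ} {I K : X.IdealSheafData}
    (h : ∀ (U : X.affineOpens) (f : Γ(X, U.1)), f ∈ I.ideal U → f ^ p ^ e ∈ K.ideal U) : frobIdeal p e I ≤ K := by
  intro U
  rw [frobIdeal_ideal, Ideal.map_le_iff_le_comap]
  intro f hf
  rw [Ideal.mem_comap, fr_apply]
  exact h U f hf

theorem anti (I : X.IdealSheafData) {a b : ℕ} (h : a ≤ b) : frobIdeal p b I ≤ frobIdeal p a I := by
  obtain ⟨c, rfl⟩ := Nat.exists_eq_add_of_le' h
  refine frobIdeal_le p fun U f hf => ?_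
  rw [pow_add, pow_mul]
  refine pow_mem p a I U ?_
  exact Ideal.pow_mem_of_mem _ hf _ (pow_pos (Fact.out : p.Prime).pos c)

theorem exists_le_pow (I : X.IdealSheafData) (N : ℕ) : ∃ e : ℕ, frobIdeal p e I ≤ I ^ N := by
  refine ⟨N, frobIdeal_le p fun U f hf => ?_⟩
  have h1 : (I ^ N).ideal U = (I.ideal U) ^ N := rfl
  rw [h1]
  exact Ideal.pow_le_pow_right (Nat.lt_pow_self (Fact.out : p.Prime).one_lt).le (Ideal.pow_mem_pow hf _)

theorem exists_pow_le [IsNoetherian X] (I : X.IdealSheafData) (e : ℕ) : ∃ N : ℕ, I ^ N ≤ frobIdeal p e I := by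
  obtain ⟨s, hs⟩ := IsOpenCover.exists_finite_of_compactSpace (iSup_affineOpens_eq_top X)
  have key : ∀ U : X.affineOpens, ∃ n : ℕ, I.ideal U ^ n ≤ (frobIdeal p e I).ideal U := fun U => by
    have : IsNoetherianRing Γ(X, U) := IsLocallyNoetherian.component_noetherian U
    exact Ideal.exists_pow_le_of_le_radical_of_fg (fun f hf => ⟨p ^ e, pow_mem p e I U hf⟩) (IsNoetherian.noetherian _)
  choose n hn using key
  refine ⟨s.sup n, ?_⟩
  refine Scheme.IdealSheafData.le_of_iSup_eq_top (ι := s) (fun i => i.1) hs fun i => ?_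
  exact (Ideal.pow_le_pow_right (Finset.le_sup (f := n) i.2)).trans (hn i.1)

/-! ### The operators -/

section Pn

variable {k : Type u} [CommRing k] [ExpChar k p] {n : ℕ} [FrobSch.IsCharP (CohB1.ProjSpace n k) p]
  (I : (CohB1.ProjSpace n k).IdealSheafData)

theorem maps_sOp (e : ℕ) (α : Fin (n + 1) →₀ ℕ) (c l : ℤ) (h : l = (p ^ e : ℕ) * c + α.degree) :
    Maps (sOp (k := k) p e α c l h) I (frobIdeal p e I) := fun U f hf t => by
  rw [secs_sOp_smul]
  exact Submodule.smul_mem_smul (pow_mem p e I U hf) trivial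

omit [FrobSch.IsCharP (CohB1.ProjSpace n k) p] in
theorem maps_frob (f : ℕ) (c l : ℤ) (h : l = (p ^ f : ℕ) * c + (0 : Fin (n + 1) →₀ ℕ).degree) :
    Maps (sOp (k := k) p f 0 c l h) I I := fun U g hg t => by
  rw [secs_sOp_smul]
  exact Submodule.smul_mem_smul (Ideal.pow_mem_of_mem _ hg _ (pow_pos (Fact.out : p.Prime).pos f)) trivial

theorem maps_cOp [PerfectRing k p] (e : ℕ) (α : Fin (n + 1) →₀ ℕ) (hα : ∀ i, α i < p ^ e) (c l : ℤ)
    (h : l = (p ^ e : ℕ) * c + α.degree) : Maps (cOp (k := k) p e α hα l c h) (frobIdeal p e I) I :=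
  fun U g hg t => by
  rw [frobIdeal_ideal] at hg
  refine Submodule.span_induction (p := fun g _ => ∀ t, secs (cOp (k := k) p e α hα l c h) U.1 (g • t) ∈
    I.ideal U • (⊤ : Submodule Γ(CohB1.ProjSpace n k, U.1) Γ(Twist.twistProjSpace n k c, U.1))) ?_ ?_ ?_ ?_ hg t
  · rintro _ ⟨f, hf, rfl⟩ t
    have h1 := secs_cOp_smul (k := k) p e α hα h U.1 f t
    rw [← fr_apply p (FrobSch.natCast_eq_zero_app (CohB1.ProjSpace n k) p U.1)] at h1
    have h2 : secs (cOp (k := k) p e α hα l c h) U.1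
        ((fr p (FrobSch.natCast_eq_zero_app (CohB1.ProjSpace n k) p U.1) e) f • t) ∈
        I.ideal U • (⊤ : Submodule Γ(CohB1.ProjSpace n k, U.1) Γ(Twist.twistProjSpace n k c, U.1)) := by
      rw [h1]
      exact Submodule.smul_mem_smul hf trivial
    exact h2
  · intro t
    rw [zero_smul, map_zero]
    exact zero_mem _
  · intro g g' _ _ h1 h2 t
    rw [add_smul, map_add]
    exact add_mem (h1 t) (h2 t)
  · intro a g _ h1 t
    rw [smul_eq_mul, mul_comm, mul_smul]
    exact h1 _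

end Pn

end K537.FrobIdeal
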