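import Groth.Agent.Dual.H371.IdealMul
import Groth.Agent.Dual.H367.IdMul
import Groth.Agent.Fdesc.LocGen

/-!
# Additive operators between modules that map `J M` to `K N`
-/

set_option autoImplicit false

universe u

open CategoryTheory CategoryTheory.Limits AlgebraicGeometry TopologicalSpace Opposite TopCat

noncomputable section

namespace K537.Lift

open Groth.Agent Groth.Agent.FormalB.TrKQuot

variable {X : Scheme.{u}} {M N P : X.Modules}

/-- A morphism of abelian sheaves on sections. -/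
def secs (ψ : Coh.toAb M ⟶ Coh.toAb N) (U : X.Opens) : Γ(M, U) →+ Γ(N, U) :=
  (ψ.hom.app (op U)).hom

theorem secs_comp (ψ : Coh.toAb M ⟶ Coh.toAb N) (χ : Coh.toAb N ⟶ Coh.toAb P) (U : X.Opens) (t : Γ(M, U)) :
    secs (ψ ≫ χ) U t = secs χ U (secs ψ U t) := rfl

theorem secs_res (ψ : Coh.toAb M ⟶ Coh.toAb N) {U V : X.Opens} (h : V ≤ U) (t : Γ(M, U)) :
    Fdesc.LocGen.res N h (secs ψ U t) = secs ψ V (Fdesc.LocGen.res M h t) := by
  have e := ψ.hom.naturality (homOfLE h).op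
  exact (congr(($e).hom t)).symm

theorem secs_ext {ψ ψ' : Coh.toAb M ⟶ Coh.toAb N} (h : ∀ (U : X.Opens) (t : Γ(M, U)), secs ψ U t = secs ψ' U t) :
    ψ = ψ' := by
  ext U t
  exact h U.unop t

/-- The underlying morphism of abelian sheaves. -/
abbrev ab (φ : M ⟶ N) : Coh.toAb M ⟶ Coh.toAb N := (SheafOfModules.toSheaf X.ringCatSheaf).map φ

theorem secs_ab (φ : M ⟶ N) (U : X.Opens) (t : Γ(M, U)) : secs (ab φ) U t = φ.app U t := rfl

theorem app_res (φ : M ⟶ N) {U V : X.Opens} (h : V ≤ U) (t : Γ(M, U)) :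
    Fdesc.LocGen.res N h (φ.app U t) = φ.app V (Fdesc.LocGen.res M h t) := secs_res (ab φ) h t

/-- Cancellation of a monomorphism of modules. -/
theorem cancel (φ : N ⟶ P) [Mono φ] {ψ ψ' : Coh.toAb M ⟶ Coh.toAb N} (h : ψ ≫ ab φ = ψ' ≫ ab φ) : ψ = ψ' :=
  secs_ext fun U t => FormalB.KQuot.injective_app_of_mono φ U
    (congrArg (fun χ : Coh.toAb M ⟶ Coh.toAb P => secs χ U t) h)

/-- A section vanishes if it does so over the affine opens. -/
theorem eq_zero_of_affine (U : X.Opens) (t : Γ(N, U))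
    (h : ∀ V : X.Opens, IsAffineOpen V → ∀ hV : V ≤ U, Fdesc.LocGen.res N hV t = 0) : t = 0 := by
  refine TopCat.Sheaf.eq_of_locally_eq' ⟨_, N.isSheaf⟩ (fun V : {V : X.Opens // V ≤ U ∧ IsAffineOpen V} => V.1) U
    (fun V => homOfLE V.2.1) ?_ _ _ ?_
  · intro x hx
    obtain ⟨V, hV, hxV, hVU⟩ := (Opens.isBasis_iff_nbhd.mp X.isBasis_affineOpens) hx
    exact Opens.mem_iSup.mpr ⟨⟨V, hVU, hV⟩, hxV⟩
  · intro V
    refine (h V.1 V.2.2 V.2.1).trans ?_
    exact (map_zero (Fdesc.LocGen.res N V.2.1)).symm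

/-- `ψ` maps `J · M` to `K · N`. -/
def Maps (ψ : Coh.toAb M ⟶ Coh.toAb N) (J K : X.IdealSheafData) : Prop :=
  ∀ (U : X.affineOpens) (f : Γ(X, U.1)), f ∈ J.ideal U → ∀ t : Γ(M, U.1),
    secs ψ U.1 (f • t) ∈ K.ideal U • (⊤ : Submodule Γ(X, U.1) Γ(N, U.1))

theorem Maps.mem {ψ : Coh.toAb M ⟶ Coh.toAb N} {J K : X.IdealSheafData} (h : Maps ψ J K) (U : X.affineOpens)
    (t : Γ(M, U.1)) (ht : t ∈ J.ideal U • (⊤ : Submodule Γ(X, U.1) Γ(M, U.1))) :
    secs ψ U.1 t ∈ K.ideal U • (⊤ : Submodule Γ(X, U.1) Γ(N, U.1)) := by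
  refine Submodule.smul_induction_on ht (fun f hf m _ => h U f hf m) (fun y y' h1 h2 => ?_)
  rw [map_add]
  exact add_mem h1 h2

theorem inj (φ : N ⟶ P) [Mono φ] (U : X.Opens) : Function.Injective (secs (ab φ) U) :=
  FormalB.KQuot.injective_app_of_mono φ U

/-- The induced section. -/
theorem exists_sec {ψ : Coh.toAb M ⟶ Coh.toAb N} {J K : X.IdealSheafData} (h : Maps ψ J K) (hM : Coh.IsQCoh M)
    (U : X.Opens) (t : Γ((Dual3.idealMul J).obj M, U)) :
    ∃ s : Γ((Dual3.idealMul K).obj N, U), secs (ab (Dual3.idealMulι K N)) U s =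
      secs ψ U (secs (ab (Dual3.idealMulι J M)) U t) := by
  have h0 : (kπ K N).app U (secs ψ U (secs (ab (Dual3.idealMulι J M)) U t)) = 0 := by
    refine eq_zero_of_affine U _ fun V hV hVU => ?_
    rw [app_res, secs_res, secs_res]
    exact app_eq_zero_of_mem (kπ K N) (killed_pushforward K _) ⟨V, hV⟩ _
      (h.mem ⟨V, hV⟩ _ (Dual.H371.IdealMul.app_mem J hM ⟨V, hV⟩ _))
  exact Sga67.IdealTorsion.exists_kernel_ι (kπ K N) U _ h0

/-- The induced map on sections. -/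
def secLift {ψ : Coh.toAb M ⟶ Coh.toAb N} {J K : X.IdealSheafData} (h : Maps ψ J K) (hM : Coh.IsQCoh M)
    (U : X.Opens) : Γ((Dual3.idealMul J).obj M, U) →+ Γ((Dual3.idealMul K).obj N, U) :=
  AddMonoidHom.mk' (fun t => (exists_sec h hM U t).choose) fun s t => inj (Dual3.idealMulι K N) U (by
    refine (exists_sec h hM U (s + t)).choose_spec.trans ?_
    rw [map_add (secs (ab (Dual3.idealMulι K N)) U), (exists_sec h hM U s).choose_spec,
      (exists_sec h hM U t).choose_spec, map_add, map_add])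

theorem secLift_spec {ψ : Coh.toAb M ⟶ Coh.toAb N} {J K : X.IdealSheafData} (h : Maps ψ J K) (hM : Coh.IsQCoh M)
    (U : X.Opens) (t : Γ((Dual3.idealMul J).obj M, U)) : secs (ab (Dual3.idealMulι K N)) U (secLift h hM U t) =
      secs ψ U (secs (ab (Dual3.idealMulι J M)) U t) := (exists_sec h hM U t).choose_spec

theorem secLift_res {ψ : Coh.toAb M ⟶ Coh.toAb N} {J K : X.IdealSheafData} (h : Maps ψ J K) (hM : Coh.IsQCoh M)
    {U V : X.Opens} (hV : V ≤ U) (t : Γ((Dual3.idealMul J).obj M, U)) :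
    secLift h hM V (Fdesc.LocGen.res _ hV t) = Fdesc.LocGen.res _ hV (secLift h hM U t) :=
  inj (Dual3.idealMulι K N) V (by
    rw [secLift_spec, ← secs_res, ← secs_res, ← secs_res, secLift_spec])

/-- **The induced operator `J M ⟶ K N`.** -/
def lift {ψ : Coh.toAb M ⟶ Coh.toAb N} {J K : X.IdealSheafData} (h : Maps ψ J K) (hM : Coh.IsQCoh M) :
    Coh.toAb ((Dual3.idealMul J).obj M) ⟶ Coh.toAb ((Dual3.idealMul K).obj N) :=
  ⟨{ app := fun U => AddCommGrpCat.ofHom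
      (X := (Coh.toAb ((Dual3.idealMul J).obj M)).obj.obj U) (Y := (Coh.toAb ((Dual3.idealMul K).obj N)).obj.obj U)
      (secLift h hM U.unop)
     naturality := by
      intro U V i
      ext t
      exact secLift_res h hM (leOfHom i.unop) t }⟩

theorem lift_ι {ψ : Coh.toAb M ⟶ Coh.toAb N} {J K : X.IdealSheafData} (h : Maps ψ J K) (hM : Coh.IsQCoh M) :
    lift h hM ≫ ab (Dual3.idealMulι K N) = ab (Dual3.idealMulι J M) ≫ ψ :=
  secs_ext fun U t => secLift_spec h hM U t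

theorem eq_lift {ψ : Coh.toAb M ⟶ Coh.toAb N} {J K : X.IdealSheafData} (h : Maps ψ J K) (hM : Coh.IsQCoh M)
    (χ : Coh.toAb ((Dual3.idealMul J).obj M) ⟶ Coh.toAb ((Dual3.idealMul K).obj N))
    (hχ : χ ≫ ab (Dual3.idealMulι K N) = ab (Dual3.idealMulι J M) ≫ ψ) : χ = lift h hM :=
  cancel (Dual3.idealMulι K N) (hχ.trans (lift_ι h hM).symm)

end K537.Lift
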