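import Groth.Agent.CohDim.K537.PLoc
import Groth.Agent.CohDim.K537.Lift
import Groth.Agent.FormalB.TildeIso

/-!
# The operators `u ↦ X^α u^(p^e)` and their adjoint components on the twisting sheaves of projective space
-/

set_option autoImplicit false

universe u v

open CategoryTheory CategoryTheory.Limits AlgebraicGeometry TopologicalSpace Opposite TopCat

noncomputable section

namespace K537.Ops

open Groth.Agent Groth.Agent.FormalB.TwistFrac Groth.Agent.FormalB.GrTildeSect Groth.Agent.FormalB.GlueHom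
open K685.Taylor K685.TwistOp K685.HasseOp K537.PBasis K537.Lift

variable {k : Type u} [CommRing k] (p : ℕ) [ExpChar k p] (e : ℕ) {n : ℕ}

/-- `u ↦ X^α u^(p^e)` at a point. -/
def sφ (α : Fin (n + 1) →₀ ℕ) (x : ProjectiveSpectrum (CohB1.polyGrading n k)) :
    Twist.Loc (CohB1.polyGrading n k) x →+ Twist.Loc (CohB1.polyGrading n k) x :=
  (mφ (MvPolynomial.monomial α 1) x).comp (frobL p e (Mx x)).toAddMonoidHom

theorem sφ_apply (α : Fin (n + 1) →₀ ℕ) (x : ProjectiveSpectrum (CohB1.polyGrading n k))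
    (u : Localization (Mx x)) : sφ p e α x u =
      algebraMap (MvPolynomial (Fin (n + 1)) k) (Localization (Mx x)) (MvPolynomial.monomial α 1) * u ^ p ^ e :=
  congrArg (algebraMap (MvPolynomial (Fin (n + 1)) k) (Localization (Mx x)) (MvPolynomial.monomial α 1) * ·)
    (frobL_apply p e (Mx x) u)

theorem pres_sφ (α : Fin (n + 1) →₀ ℕ) {c l : ℤ} (h : l = (p ^ e : ℕ) * c + α.degree) :
    Pres (sφ (k := k) p e α) c l := by
  intro j s hs a ha
  refine ⟨p ^ e * j, s ^ p ^ e, MvPolynomial.monomial α 1 * a ^ p ^ e, ?_, ?_, fun x hx =>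
    ⟨fun h => hx (x.isPrime.mem_of_pow_mem _ h), ?_⟩⟩
  · have := (hz_iff.2 hs).pow (p ^ e)
    rw [← hz_iff]
    push_cast at this ⊢
    exact this
  · rw [← hz_iff_zdeg]
    convert (hz_iff.2 (monomial_mem (k := k) α)).mul ((hz_iff_zdeg.2 ha).pow (p ^ e)) using 1
    rw [h]
    push_cast
    ring
  · refine (sφ_apply p e α x (Localization.mk a ⟨s, hx⟩)).trans ?_
    rw [Localization.mk_pow, ← Localization.mk_one_eq_algebraMap, Localization.mk_mul, one_mul]
    rfl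

/-- The operator `O(c) ⟶ O(l)`, `u ↦ X^α u^(p^e)`. -/
def sOp (α : Fin (n + 1) →₀ ℕ) (c l : ℤ) (h : l = (p ^ e : ℕ) * c + α.degree) :
    Coh.toAb (Twist.twistProjSpace n k c) ⟶ Coh.toAb (Twist.twistProjSpace n k l) := opMap (pres_sφ p e α h)

variable [PerfectRing k p]

/-- The component at `X^α` at a point. -/
def cφ (α : Fin (n + 1) →₀ ℕ) (hα : ∀ i, α i < p ^ e) (x : ProjectiveSpectrum (CohB1.polyGrading n k)) :
    Twist.Loc (CohB1.polyGrading n k) x →+ Twist.Loc (CohB1.polyGrading n k) x := compL p e (Mx x) α hα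

theorem pres_cφ (α : Fin (n + 1) →₀ ℕ) (hα : ∀ i, α i < p ^ e) {c l : ℤ} (h : l = (p ^ e : ℕ) * c + α.degree) :
    Pres (cφ (k := k) p e α hα) l c := by
  intro j s hs a ha
  refine ⟨j, s, comp p e α (a * s ^ (p ^ e - 1)), hs, ?_, fun x hx => ⟨hx, compL_mk p e (Mx x) α hα a ⟨s, hx⟩⟩⟩
  rw [← hz_iff_zdeg]
  refine HZ.comp p e α ?_
  convert (hz_iff_zdeg.2 ha).mul ((hz_iff.2 hs).pow (p ^ e - 1)) using 1
  have h1 : ((p ^ e - 1 : ℕ) : ℤ) = (p ^ e : ℕ) - 1 := by
    rw [Nat.cast_sub (q_pos k p e)]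
    rfl
  rw [h, h1]
  ring

/-- The component at `X^α`, `O(l) ⟶ O(c)`. -/
def cOp (α : Fin (n + 1) →₀ ℕ) (hα : ∀ i, α i < p ^ e) (l c : ℤ) (h : l = (p ^ e : ℕ) * c + α.degree) :
    Coh.toAb (Twist.twistProjSpace n k l) ⟶ Coh.toAb (Twist.twistProjSpace n k c) := opMap (pres_cφ p e α hα h)

/-- The elements of the box that occur in degree `l`. -/
abbrev Bx (q n : ℕ) (l : ℤ) : Type := {α : Fin (n + 1) → Fin q // (q : ℤ) ∣ l - (ex α).degree}

/-- The degree of the component. -/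
def dg {q n : ℕ} {l : ℤ} (α : Bx q n l) : ℤ := (l - (ex α.1).degree) / q

theorem dg_spec {q n : ℕ} {l : ℤ} (α : Bx q n l) : l = q * dg α + (ex α.1).degree := by
  rw [dg, Int.mul_ediv_cancel' α.2, sub_add_cancel]

/-- `∑_α (component at X^α, then X^α (-)^(p^e)) = 1`. -/
theorem sum_op (l : ℤ) : ∑ α : Bx (p ^ e) n l,
    (cOp (k := k) p e (ex α.1) (ex_lt α.1) l (dg α) (dg_spec α) ≫ sOp p e (ex α.1) (dg α) l (dg_spec α)) = 𝟙 _ := by
  classical
  refine IsOp.hom_ext (IsOp.sum _ _ (fun (α : Bx (p ^ e) n l) x => (sφ (k := k) p e (ex α.1) x).comp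
    (cφ p e (ex α.1) (ex_lt α.1) x)) fun α => (isOp_opMap _).comp (isOp_opMap _)) IsOp.id fun x j s hs a ha hx => ?_
  rw [AddMonoidHom.finsetSum_apply]
  have h1 : ∀ α : Fin (n + 1) → Fin (p ^ e), (sφ (k := k) p e (ex α) x).comp (cφ p e (ex α) (ex_lt α) x)
      (Localization.mk a ⟨s, hx⟩) = algebraMap (MvPolynomial (Fin (n + 1)) k) (Localization (Mx x))
        (MvPolynomial.monomial (ex α) 1) * (compL p e (Mx x) (ex α) (ex_lt α) (Localization.mk a ⟨s, hx⟩)) ^ p ^ e :=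
    fun α => sφ_apply p e (ex α) x _
  have h2 := sum_compL (k := k) p e (Mx x) (Localization.mk a ⟨s, hx⟩)
  have h5 : ((p ^ e - 1 : ℕ) : ℤ) = (p ^ e : ℕ) - 1 := by
    rw [Nat.cast_sub (q_pos k p e)]
    rfl
  have h4 : ∀ α : Fin (n + 1) → Fin (p ^ e), ¬ ((p ^ e : ℕ) : ℤ) ∣ l - (ex α).degree →
      compL p e (Mx x) (ex α) (ex_lt α) (Localization.mk a ⟨s, hx⟩) = 0 := by
    intro α hα
    have hz := (hz_iff_zdeg.2 ha).mul ((hz_iff.2 hs).pow (p ^ e - 1))
    rw [compL_mk]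
    dsimp only
    rw [comp_eq_zero_of_not_dvd p e (ex α) hz, Localization.mk_zero]
    intro hd
    refine hα ?_
    rw [h5] at hd
    have h6 : l - (ex α).degree = ((j : ℤ) + l + (((p ^ e : ℕ) : ℤ) - 1) * j - (ex α).degree) - ((p ^ e : ℕ) : ℤ) * j := by
      ring
    rw [h6]
    exact dvd_sub hd (Dvd.intro _ rfl)
  refine Eq.trans ?_ h2
  rw [← Finset.sum_subset (Finset.subset_univ (Finset.univ.filter fun α : Fin (n + 1) → Fin (p ^ e) =>
    ((p ^ e : ℕ) : ℤ) ∣ l - (ex α).degree)) (fun α _ hα => by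
      rw [Finset.mem_filter, not_and] at hα
      rw [h4 α (hα (Finset.mem_univ _)), zero_pow (q_pos k p e).ne', mul_zero])]
  rw [Finset.sum_congr rfl fun (α : Bx (p ^ e) n l) _ => h1 α.1]
  exact (Finset.sum_subtype _ (fun α => by rw [Finset.mem_filter]; exact ⟨fun h => h.2, fun h => ⟨Finset.mem_univ _, h⟩⟩)
    (fun α : Fin (n + 1) → Fin (p ^ e) => algebraMap (MvPolynomial (Fin (n + 1)) k) (Localization (Mx x))
        (MvPolynomial.monomial (ex α) 1) *
          (compL p e (Mx x) (ex α) (ex_lt α) (Localization.mk a ⟨s, hx⟩)) ^ p ^ e)).symm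

/-! ### Semilinearity -/

omit [PerfectRing k p] in
theorem secs_sOp (α : Fin (n + 1) →₀ ℕ) {c l : ℤ} (h : l = (p ^ e : ℕ) * c + α.degree)
    (U : (CohB1.ProjSpace n k).Opens) (t : Γ(Twist.twistProjSpace n k c, U)) (x : U) :
    tval (𝒜 := CohB1.polyGrading n k) (secs (sOp p e α c l h) U t) x =
      algebraMap (MvPolynomial (Fin (n + 1)) k) (Localization (Mx x.1)) (MvPolynomial.monomial α 1) *
        (show Localization (Mx x.1) from tval (𝒜 := CohB1.polyGrading n k) t x) ^ p ^ e :=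
  sφ_apply p e α x.1 _

omit [PerfectRing k p] in
theorem secs_sOp_smul (α : Fin (n + 1) →₀ ℕ) {c l : ℤ} (h : l = (p ^ e : ℕ) * c + α.degree)
    (U : (CohB1.ProjSpace n k).Opens) (f : Γ(CohB1.ProjSpace n k, U)) (t : Γ(Twist.twistProjSpace n k c, U)) :
    secs (sOp p e α c l h) U (f • t) = f ^ p ^ e • secs (sOp p e α c l h) U t := by
  refine tval_ext (𝒜 := CohB1.polyGrading n k) fun x => ?_
  refine (secs_sOp p e α h U (f • t) x).trans ?_
  refine Eq.trans ?_ (tval_smul (𝒜 := CohB1.polyGrading n k) (f ^ p ^ e) (secs (sOp p e α c l h) U t) x).symm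
  have h1 := FormalB.TildeIso.oval_pow (𝒜 := CohB1.polyGrading n k) f (p ^ e) x
  have h2 := tval_smul (𝒜 := CohB1.polyGrading n k) f t x
  have h3 := secs_sOp p e α h U t x
  have key : ∀ (m a b : Localization (Mx x.1)), m * (a * b) ^ p ^ e = a ^ p ^ e * (m * b ^ p ^ e) := fun m a b => by
    rw [mul_pow]; ring
  refine Eq.trans (congrArg (fun z : Localization (Mx x.1) => algebraMap (MvPolynomial (Fin (n + 1)) k)
    (Localization (Mx x.1)) (MvPolynomial.monomial α 1) * z ^ p ^ e) h2) ?_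
  refine (key _ _ _).trans ?_
  exact congrArg₂ (fun a b : Localization (Mx x.1) => a * b) h1.symm h3.symm

theorem secs_cOp_smul (α : Fin (n + 1) →₀ ℕ) (hα : ∀ i, α i < p ^ e) {c l : ℤ} (h : l = (p ^ e : ℕ) * c + α.degree)
    (U : (CohB1.ProjSpace n k).Opens) (f : Γ(CohB1.ProjSpace n k, U)) (t : Γ(Twist.twistProjSpace n k l, U)) :
    secs (cOp p e α hα l c h) U (f ^ p ^ e • t) = f • secs (cOp p e α hα l c h) U t := by
  refine tval_ext (𝒜 := CohB1.polyGrading n k) fun x => ?_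
  have h1 := FormalB.TildeIso.oval_pow (𝒜 := CohB1.polyGrading n k) f (p ^ e) x
  have h2 := tval_smul (𝒜 := CohB1.polyGrading n k) (f ^ p ^ e) t x
  refine Eq.trans ?_ (tval_smul (𝒜 := CohB1.polyGrading n k) f (secs (cOp p e α hα l c h) U t) x).symm
  refine Eq.trans ?_ (compL_pow_mul p e (Mx x.1) α hα (oval (𝒜 := CohB1.polyGrading n k) f x)
    (tval (𝒜 := CohB1.polyGrading n k) t x))
  exact congrArg (compL p e (Mx x.1) α hα) (h2.trans (congrArg (fun z : Localization (Mx x.1) =>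
    z * (show Localization (Mx x.1) from tval (𝒜 := CohB1.polyGrading n k) t x)) h1))

/-! ### Composition -/

omit [PerfectRing k p] in
/-- `u ↦ X^α u^(p^(e+f))` is `u ↦ u^(p^f)` followed by `u ↦ X^α u^(p^e)`. -/
theorem sOp_comp (f : ℕ) (α : Fin (n + 1) →₀ ℕ) {c l : ℤ} (h : l = (p ^ (f + e) : ℕ) * c + α.degree)
    (h1 : (p ^ f : ℕ) * c = (p ^ f : ℕ) * c + (0 : Fin (n + 1) →₀ ℕ).degree)
    (h2 : l = (p ^ e : ℕ) * ((p ^ f : ℕ) * c) + α.degree) :
    sOp (k := k) p (f + e) α c l h = sOp p f 0 c ((p ^ f : ℕ) * c) h1 ≫ sOp p e α ((p ^ f : ℕ) * c) l h2 := by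
  refine IsOp.hom_ext (isOp_opMap _) ((isOp_opMap _).comp (isOp_opMap _)) fun x j s _ a _ hx => ?_
  have key : ∀ u : Localization (Mx x), sφ (k := k) p (f + e) α x u = sφ p e α x (sφ p f 0 x u) := by
    intro u
    refine (sφ_apply p (f + e) α x u).trans (Eq.trans ?_ (sφ_apply p e α x _).symm)
    refine congrArg (fun z : Localization (Mx x) => algebraMap (MvPolynomial (Fin (n + 1)) k)
      (Localization (Mx x)) (MvPolynomial.monomial α 1) * z) ?_
    refine Eq.trans ?_ (congrArg (fun z : Localization (Mx x) => z ^ p ^ e) (sφ_apply p f 0 x u)).symm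
    rw [show (MvPolynomial.monomial (0 : Fin (n + 1) →₀ ℕ) (1 : k)) = 1 from rfl, map_one, one_mul, ← pow_mul, pow_add]
  exact key _

end K537.Ops
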