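import Mathlib.FieldTheory.Perfect
import Mathlib.RingTheory.MvPolynomial.Basic
import Mathlib.RingTheory.Localization.Basic
import Groth.Agent.CohDim.K685.Taylor

/-!
# The `p^e`-basis of a polynomial ring over a perfect field, and of its localizations

`comp p e α f` is the coefficient of `X^α` in `f = ∑_α X^α (comp p e α f)^(p^e)`, `α` in the box `[0, p^e)^σ`;
`compL p e M α` is its extension to the localization at `M`.
-/

set_option autoImplicit false

universe u v

open MvPolynomial

noncomputable section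

namespace K537.PBasis

theorem q_inj {σ : Type v} {q : ℕ} (hq : 0 < q) (α : σ →₀ ℕ) :
    Function.Injective (fun m : σ →₀ ℕ => q • m + α) := fun m m' h => by
  have h1 := add_right_cancel h
  ext i
  have h2 := DFunLike.congr_fun h1 i
  simp only [Finsupp.smul_apply, smul_eq_mul] at h2
  exact Nat.eq_of_mul_eq_mul_left hq h2

theorem q_pos (k : Type u) [CommRing k] (p : ℕ) [ExpChar k p] (e : ℕ) : 0 < p ^ e := pow_pos (expChar_pos k p) e

variable {k : Type u} [CommRing k] (p : ℕ) [ExpChar k p] [PerfectRing k p] (e : ℕ) {σ : Type v}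

/-- The `p^e`-th root. -/
def rt : k ≃+* k := (iterateFrobeniusEquiv k p e).symm

theorem rt_pow (c : k) : (rt p e c) ^ p ^ e = c := by
  have h := (iterateFrobeniusEquiv k p e).apply_symm_apply c
  rwa [iterateFrobeniusEquiv_def] at h

theorem rt_of_pow (c : k) : rt p e (c ^ p ^ e) = c := by
  have h := (iterateFrobeniusEquiv k p e).symm_apply_apply c
  rwa [iterateFrobeniusEquiv_def] at h

/-- The component of `f` at `X^α`. -/
def comp (α : σ →₀ ℕ) (f : MvPolynomial σ k) : MvPolynomial σ k :=
  AddMonoidAlgebra.ofCoeff (((AddMonoidAlgebra.coeff f).comapDomain (fun m => p ^ e • m + α)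
    (q_inj (q_pos k p e) α).injOn).mapRange (rt p e) (map_zero _))

theorem coeff_comp (α : σ →₀ ℕ) (f : MvPolynomial σ k) (m : σ →₀ ℕ) :
    coeff m (comp p e α f) = rt p e (coeff (p ^ e • m + α) f) := rfl

theorem comp_zero (α : σ →₀ ℕ) : comp p e α (0 : MvPolynomial σ k) = 0 := by
  ext m
  rw [coeff_comp, coeff_zero, map_zero, coeff_zero]

theorem comp_add (α : σ →₀ ℕ) (f g : MvPolynomial σ k) : comp p e α (f + g) = comp p e α f + comp p e α g := by
  ext m
  rw [coeff_comp, coeff_add, map_add, coeff_add, coeff_comp, coeff_comp]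

omit [ExpChar k p] [PerfectRing k p] in
theorem monomial_pow' (m : σ →₀ ℕ) (r : k) : (monomial m r) ^ p ^ e = monomial (p ^ e • m) (r ^ p ^ e) :=
  monomial_pow ..

/-- The component is `p^{-e}`-linear. -/
theorem comp_pow_mul (α : σ →₀ ℕ) (hα : ∀ i, α i < p ^ e) (g f : MvPolynomial σ k) :
    comp p e α (g ^ p ^ e * f) = g * comp p e α f := by
  classical
  induction g using MvPolynomial.induction_on' with
  | monomial m r =>
    ext m'
    rw [coeff_comp, monomial_pow', coeff_monomial_mul', coeff_monomial_mul']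
    have hle : p ^ e • m ≤ p ^ e • m' + α ↔ m ≤ m' := by
      constructor
      · intro h i
        have h1 := h i
        simp only [Finsupp.smul_apply, smul_eq_mul, Finsupp.add_apply] at h1
        have h2 := hα i
        by_contra hcon
        have h3 : m' i + 1 ≤ m i := by omega
        have h4 := Nat.mul_le_mul_left (p ^ e) h3
        rw [mul_add, mul_one] at h4
        omega
      · intro h i
        have h1 := h i
        simp only [Finsupp.smul_apply, smul_eq_mul, Finsupp.add_apply]
        exact (Nat.mul_le_mul_left _ h1).trans (Nat.le_add_right _ _)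
    by_cases h : m ≤ m'
    · rw [if_pos h, if_pos (hle.2 h), map_mul, rt_of_pow, coeff_comp]
      congr 3
      obtain ⟨d, rfl⟩ := le_iff_exists_add.1 h
      rw [add_tsub_cancel_left, smul_add, add_assoc, add_tsub_cancel_left]
    · rw [if_neg h, if_neg (fun h' => h (hle.1 h')), map_zero]
  | add g h hg hh =>
    rw [add_pow_expChar_pow, add_mul, comp_add, hg, hh, add_mul]

/-- The component of a monomial. -/
theorem comp_monomial (α m : σ →₀ ℕ) (r : k) :
    comp p e α (monomial (p ^ e • m + α) r) = monomial m (rt p e r) := by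
  classical
  ext m'
  rw [coeff_comp, coeff_monomial, coeff_monomial]
  by_cases h : m = m'
  · rw [if_pos h, if_pos (by rw [h])]
  · rw [if_neg h, if_neg (fun h' => h (q_inj (q_pos k p e) α h')), map_zero]

theorem comp_monomial_ne (α d : σ →₀ ℕ) (h : ∀ m : σ →₀ ℕ, p ^ e • m + α ≠ d) (r : k) :
    comp p e α (monomial d r) = 0 := by
  classical
  ext m'
  rw [coeff_comp, coeff_monomial, if_neg (fun h' => h m' h'.symm), map_zero, coeff_zero]

section Box

variable [Fintype σ] [DecidableEq σ]

/-- The exponent of an element of the box. -/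
def ex {q : ℕ} (α : σ → Fin q) : σ →₀ ℕ := Finsupp.equivFunOnFinite.symm fun i => (α i : ℕ)

omit [DecidableEq σ] in
theorem ex_lt {q : ℕ} (α : σ → Fin q) (i : σ) : ex α i < q := (α i).2

omit [DecidableEq σ] in
theorem ex_injective {q : ℕ} : Function.Injective (ex : (σ → Fin q) → σ →₀ ℕ) := fun α β h => by
  funext i
  exact Fin.ext (DFunLike.congr_fun h i)

/-- `f = ∑_α X^α (f_α)^(p^e)`. -/
theorem sum_comp (f : MvPolynomial σ k) :
    ∑ α : σ → Fin (p ^ e), monomial (ex α) 1 * (comp p e (ex α) f) ^ p ^ e = f := by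
  induction f using MvPolynomial.induction_on' with
  | monomial d r =>
    let α₀ : σ → Fin (p ^ e) := fun i => ⟨d i % p ^ e, Nat.mod_lt _ (q_pos k p e)⟩
    let m₀ : σ →₀ ℕ := Finsupp.equivFunOnFinite.symm fun i => d i / p ^ e
    have hd : p ^ e • m₀ + ex α₀ = d := by
      ext i
      change p ^ e * (d i / p ^ e) + d i % p ^ e = d i
      exact Nat.div_add_mod _ _
    rw [Finset.sum_eq_single α₀]
    · have h1 := comp_monomial (k := k) p e (ex α₀) m₀ r
      rw [hd] at h1
      rw [h1, monomial_pow', rt_pow, monomial_mul, one_mul, add_comm, hd]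
    · intro α _ hα
      rw [comp_monomial_ne, zero_pow (q_pos k p e).ne', mul_zero]
      intro m hm
      apply hα
      funext i
      apply Fin.ext
      have h1 := DFunLike.congr_fun hm i
      change p ^ e * m i + (α i : ℕ) = d i at h1
      change (α i : ℕ) = d i % p ^ e
      rw [← h1, Nat.mul_add_mod, Nat.mod_eq_of_lt (α i).2]
    · intro h
      exact absurd (Finset.mem_univ _) h
  | add f g hf hg =>
    simp only [comp_add, add_pow_expChar_pow, mul_add, Finset.sum_add_distrib]
    rw [hf, hg]

end Box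

/-! ### Degrees -/

open K685.Taylor

theorem HZ.comp (α : σ →₀ ℕ) {f : MvPolynomial σ k} {c : ℤ} (hf : HZ f ((p ^ e : ℕ) * c + α.degree)) :
    HZ (comp p e α f) c := fun m hm => by
  rw [coeff_comp] at hm
  have h1 : coeff (p ^ e • m + α) f ≠ 0 := fun h => hm (by rw [h, map_zero])
  have h2 := hf _ h1
  rw [map_add, map_nsmul] at h2
  push_cast [smul_eq_mul] at h2
  have h3 : (p ^ e : ℤ) * m.degree = (p ^ e : ℤ) * c := by linarith
  have h4 : (p ^ e : ℤ) ≠ 0 := by exact_mod_cast (q_pos k p e).ne'
  exact mul_left_cancel₀ h4 h3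

theorem comp_eq_zero_of_not_dvd (α : σ →₀ ℕ) {f : MvPolynomial σ k} {d : ℤ} (hf : HZ f d)
    (h : ¬ ((p ^ e : ℕ) : ℤ) ∣ d - α.degree) : PBasis.comp p e α f = 0 := by
  ext m
  rw [coeff_comp, coeff_zero]
  by_contra hm
  have h1 : coeff (p ^ e • m + α) f ≠ 0 := fun h => hm (by rw [h, map_zero])
  have h2 := hf _ h1
  rw [map_add, map_nsmul] at h2
  refine h ⟨m.degree, ?_⟩
  rw [← h2]
  push_cast [smul_eq_mul]
  ring

end K537.PBasis
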