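import Groth.Agent.CohDim.K537.PBasis
import Groth.Agent.CohDim.K685.HasseOp

/-!
# The `p^e`-basis on localizations, and the operators on the twisting sheaves

* `frobL p e M`: the `p^e`-th power map of `Localization M`; `compL p e M α`: the components;
* `sOp`: `u ↦ X^α u^(p^e)`, `O(c) ⟶ O(l)`, and `cOp`: the component at `X^α`, `O(l) ⟶ O(c)`, `l = p^e c + |α|`.
-/

set_option autoImplicit false

universe u v

open MvPolynomial

noncomputable section

namespace K537.PBasis

section Loc

variable {k : Type u} [CommRing k] (p : ℕ) [ExpChar k p] [PerfectRing k p] (e : ℕ) {σ : Type v}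
  (M : Submonoid (MvPolynomial σ k))

omit [PerfectRing k p] in
theorem le_comap_frob : M ≤ M.comap (iterateFrobenius (MvPolynomial σ k) p e) :=
  fun s hs => by
    rw [Submonoid.mem_comap]
    change s ^ p ^ e ∈ M
    exact pow_mem hs _

/-- The `p^e`-th power map. -/
def frobL : Localization M →+* Localization M :=
  IsLocalization.map (Localization M) (iterateFrobenius (MvPolynomial σ k) p e) (le_comap_frob p e M)

omit [PerfectRing k p] in
theorem frobL_apply (u : Localization M) : frobL p e M u = u ^ p ^ e := by
  obtain ⟨⟨a, s⟩, h⟩ := IsLocalization.surj M u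
  have hs : IsUnit (algebraMap (MvPolynomial σ k) (Localization M) s) := IsLocalization.map_units _ s
  have h1 : ∀ b : MvPolynomial σ k, frobL p e M (algebraMap _ _ b) = (algebraMap _ (Localization M) b) ^ p ^ e := by
    intro b
    rw [frobL, IsLocalization.map_eq, iterateFrobenius_def, map_pow]
  refine (hs.pow (p ^ e)).mul_right_cancel ?_
  rw [← mul_pow, h, ← h1, ← h1, ← map_mul, h]

omit [PerfectRing k p] in
variable (k) in
include k in
theorem exists_q : ∃ q' : ℕ, p ^ e = q' + 1 := ⟨p ^ e - 1, (Nat.sub_add_cancel (q_pos k p e)).symm⟩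

variable {p e} in
theorem comp_pow_mul' (α : σ →₀ ℕ) (hα : ∀ i, α i < p ^ e) (g f h : MvPolynomial σ k) (H : h = g ^ p ^ e * f) :
    comp p e α h = g * comp p e α f := by
  rw [H, comp_pow_mul p e α hα]

/-- The component on the localization, as a function. -/
def compF (α : σ →₀ ℕ) (hα : ∀ i, α i < p ^ e) (u : Localization M) : Localization M :=
  Localization.liftOn u (fun a s => Localization.mk (comp p e α (a * (s : MvPolynomial σ k) ^ (p ^ e - 1))) s) (by
    intro a c s t h
    rw [Localization.r_iff_exists] at h
    obtain ⟨w, hw⟩ := h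
    rw [Localization.mk_eq_mk_iff, Localization.r_iff_exists]
    refine ⟨w, ?_⟩
    obtain ⟨q', hq'⟩ := exists_q k p e
    dsimp only at hw ⊢
    have h1 : (p ^ e - 1) = q' := by omega
    rw [h1]
    have e1 := comp_pow_mul' (p := p) (e := e) α hα ((w : MvPolynomial σ k) * (t : MvPolynomial σ k)) (a * (s : MvPolynomial σ k) ^ q')
      ((w : MvPolynomial σ k) ^ q' * (t : MvPolynomial σ k) ^ q' * (s : MvPolynomial σ k) ^ q' * ((w : MvPolynomial σ k) * ((t : MvPolynomial σ k) * a)))
      (by rw [hq']; ring)
    have e2 := comp_pow_mul' (p := p) (e := e) α hα ((w : MvPolynomial σ k) * (s : MvPolynomial σ k)) (c * (t : MvPolynomial σ k) ^ q')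
      ((w : MvPolynomial σ k) ^ q' * (t : MvPolynomial σ k) ^ q' * (s : MvPolynomial σ k) ^ q' * ((w : MvPolynomial σ k) * ((s : MvPolynomial σ k) * c)))
      (by rw [hq']; ring)
    refine (mul_assoc _ _ _).symm.trans (e1.symm.trans (Eq.trans ?_ (e2.trans (mul_assoc _ _ _))))
    rw [hw])

theorem compF_mk (α : σ →₀ ℕ) (hα : ∀ i, α i < p ^ e) (a : MvPolynomial σ k) (s : M) :
    compF p e M α hα (Localization.mk a s) =
      Localization.mk (comp p e α (a * (s : MvPolynomial σ k) ^ (p ^ e - 1))) s := Localization.liftOn_mk _ _ _ _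

/-- The component on the localization. -/
def compL (α : σ →₀ ℕ) (hα : ∀ i, α i < p ^ e) : Localization M →+ Localization M where
  toFun := compF p e M α hα
  map_zero' := by
    rw [← Localization.mk_zero (1 : M), compF_mk, zero_mul, comp_zero]
  map_add' u v := by
    induction u using Localization.induction_on with
    | H x =>
      induction v using Localization.induction_on with
      | H y =>
        obtain ⟨a, s⟩ := x
        obtain ⟨b, t⟩ := y
        obtain ⟨q', hq'⟩ := exists_q k p e
        have h1 : (p ^ e - 1) = q' := by omega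
        dsimp only
        rw [Localization.add_mk, compF_mk, compF_mk, compF_mk, Localization.add_mk, h1]
        congr 1
        rw [← comp_pow_mul p e α hα, ← comp_pow_mul p e α hα, ← comp_add]
        congr 1
        rw [hq', Submonoid.coe_mul]
        ring

theorem compL_mk (α : σ →₀ ℕ) (hα : ∀ i, α i < p ^ e) (a : MvPolynomial σ k) (s : M) :
    compL p e M α hα (Localization.mk a s) =
      Localization.mk (comp p e α (a * (s : MvPolynomial σ k) ^ (p ^ e - 1))) s := compF_mk p e M α hα a s

theorem compL_pow_mul (α : σ →₀ ℕ) (hα : ∀ i, α i < p ^ e) (u v : Localization M) :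
    compL p e M α hα (u ^ p ^ e * v) = u * compL p e M α hα v := by
  induction u using Localization.induction_on with
  | H x =>
    induction v using Localization.induction_on with
    | H y =>
      obtain ⟨a, s⟩ := x
      obtain ⟨b, t⟩ := y
      obtain ⟨q', hq'⟩ := exists_q k p e
      have h1 : (p ^ e - 1) = q' := by omega
      dsimp only
      rw [Localization.mk_pow, Localization.mk_mul, compL_mk, compL_mk, Localization.mk_mul, h1]
      have e1 := comp_pow_mul' (p := p) (e := e) α hα (a * (s : MvPolynomial σ k) ^ q')
        (b * (t : MvPolynomial σ k) ^ q')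
        (a ^ p ^ e * b * (((s ^ p ^ e * t : M) : MvPolynomial σ k)) ^ q')
        (by rw [Submonoid.coe_mul, SubmonoidClass.coe_pow, mul_pow, mul_pow, ← pow_mul, ← pow_mul,
              mul_comm (p ^ e) q']; ring)
      rw [e1, Localization.mk_eq_mk_iff, Localization.r_iff_exists]
      refine ⟨1, ?_⟩
      rw [Submonoid.coe_one, one_mul, one_mul, Submonoid.coe_mul, Submonoid.coe_mul, SubmonoidClass.coe_pow, hq']
      ring

theorem sum_compL [Fintype σ] [DecidableEq σ] (u : Localization M) :
    ∑ α : σ → Fin (p ^ e), algebraMap (MvPolynomial σ k) (Localization M) (monomial (ex α) 1) *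
      (compL p e M (ex α) (ex_lt α) u) ^ p ^ e = u := by
  induction u using Localization.induction_on with
  | H x =>
    obtain ⟨a, s⟩ := x
    obtain ⟨q', hq'⟩ := exists_q k p e
    have h1 : (p ^ e - 1) = q' := by omega
    have h2 := sum_comp (k := k) p e (a * (s : MvPolynomial σ k) ^ q')
    have h3 : ∀ α : σ → Fin (p ^ e), algebraMap (MvPolynomial σ k) (Localization M) (monomial (ex α) 1) *
        (compL p e M (ex α) (ex_lt α) (Localization.mk a s)) ^ p ^ e =
        Localization.mk (monomial (ex α) 1 * (comp p e (ex α) (a * (s : MvPolynomial σ k) ^ q')) ^ p ^ e)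
          (s ^ p ^ e) := by
      intro α
      rw [compL_mk, h1, Localization.mk_pow, ← Localization.mk_one_eq_algebraMap, Localization.mk_mul, one_mul]
    rw [Finset.sum_congr rfl fun α _ => h3 α, ← Localization.mk_sum, h2, Localization.mk_eq_mk_iff,
      Localization.r_iff_exists]
    refine ⟨1, ?_⟩
    rw [Submonoid.coe_one, one_mul, one_mul, SubmonoidClass.coe_pow]
    dsimp only
    rw [hq']
    ring

end Loc

end K537.PBasis
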