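import Groth.Agent.CohDim.K537.Lift
import Groth.Agent.CurvesC.HV

/-!
# Semilinear operators on cohomology
-/

set_option autoImplicit false

universe u

open CategoryTheory CategoryTheory.Limits AlgebraicGeometry TopologicalSpace Opposite TopCat

noncomputable section

namespace K537

open Groth.Agent Groth.Agent.CurvesC K537.Lift

variable {X : Scheme.{u}} {M N P : X.Modules}

/-- `ψ (f t) = f^q ψ(t)`. -/
def Semi (q : ℕ) (ψ : Coh.toAb M ⟶ Coh.toAb N) : Prop :=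
  ∀ (U : X.Opens) (f : Γ(X, U)) (t : Γ(M, U)), secs ψ U (f • t) = f ^ q • secs ψ U t

theorem Semi.comp_ab {q : ℕ} {ψ : Coh.toAb M ⟶ Coh.toAb N} (h : Semi q ψ) (φ : N ⟶ P) : Semi q (ψ ≫ ab φ) :=
  fun U f t => by
    rw [secs_comp, secs_comp, h U f t, secs_ab, secs_ab]
    exact Scheme.Modules.Hom.app_smul _ _ _

theorem Semi.lift {q : ℕ} {ψ : Coh.toAb M ⟶ Coh.toAb N} (h : Semi q ψ) {J K : X.IdealSheafData} (hψ : Maps ψ J K)
    (hM : Coh.IsQCoh M) : Semi q (Lift.lift hψ hM) := fun U f t => by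
  refine inj (Dual3.idealMulι K N) U ?_
  have h1 : secs (ab (Dual3.idealMulι K N)) U (secs (Lift.lift hψ hM) U (f • t)) =
      secs ψ U (secs (ab (Dual3.idealMulι J M)) U (f • t)) := secLift_spec hψ hM U (f • t)
  have h2 : secs (ab (Dual3.idealMulι K N)) U (secs (Lift.lift hψ hM) U t) =
      secs ψ U (secs (ab (Dual3.idealMulι J M)) U t) := secLift_spec hψ hM U t
  have h3 : secs (ab (Dual3.idealMulι J M)) U (f • t) = f • secs (ab (Dual3.idealMulι J M)) U t :=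
    Scheme.Modules.Hom.app_smul _ _ _
  have h4 : secs (ab (Dual3.idealMulι K N)) U (f ^ q • secs (Lift.lift hψ hM) U t) =
      f ^ q • secs (ab (Dual3.idealMulι K N)) U (secs (Lift.lift hψ hM) U t) :=
    Scheme.Modules.Hom.app_smul _ _ _
  rw [h1, h3, h U, h4, h2]

theorem Semi.smulAb {q : ℕ} {ψ : Coh.toAb M ⟶ Coh.toAb N} (h : Semi q ψ) (r : Coh.Γtop X) :
    Coh.smulAb M r ≫ ψ = ψ ≫ Coh.smulAb N (r ^ q) := secs_ext fun U t => by
  have h1 := h U (Coh.resTop X (op U) r) t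
  have h2 : Coh.resTop X (op U) (r ^ q) = (Coh.resTop X (op U) r) ^ q := map_pow _ _ _
  exact h1.trans (congrArg (fun z : Γ(X, U) => z • secs ψ U t) h2.symm)

/-- The map on cohomology induced by a morphism of abelian sheaves, sealed. -/
def am (ψ : Coh.toAb M ⟶ Coh.toAb N) (a : ℕ) : HV X M a →+ HV X N a :=
  (Sheaf.H.map ψ a : Coh.HH X M a →+ Coh.HH X N a)

theorem am_comp (ψ : Coh.toAb M ⟶ Coh.toAb N) (χ : Coh.toAb N ⟶ Coh.toAb P) (a : ℕ) (x : HV X M a) :
    am (ψ ≫ χ) a x = am χ a (am ψ a x) := Sheaf.H.map_comp_apply ψ χ (n := a) x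

theorem am_id (a : ℕ) (x : HV X M a) : am (𝟙 (Coh.toAb M)) a x = x := Sheaf.H.map_id_apply x

theorem am_add (ψ χ : Coh.toAb M ⟶ Coh.toAb N) (a : ℕ) (x : HV X M a) :
    am (ψ + χ) a x = am ψ a x + am χ a x := Sheaf.H.map_add_apply ψ χ x

theorem am_zero (a : ℕ) (x : HV X M a) : am (0 : Coh.toAb M ⟶ Coh.toAb N) a x = 0 := by
  have h := am_add (0 : Coh.toAb M ⟶ Coh.toAb N) 0 a x
  rw [add_zero] at h
  exact left_eq_add.1 h

theorem am_sum {ι : Type*} (s : Finset ι) (ψ : ι → (Coh.toAb M ⟶ Coh.toAb N)) (a : ℕ) (x : HV X M a) :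
    am (∑ i ∈ s, ψ i) a x = ∑ i ∈ s, am (ψ i) a x := by
  classical
  induction s using Finset.induction_on with
  | empty => rw [Finset.sum_empty, Finset.sum_empty, am_zero]
  | insert i s hi ih => rw [Finset.sum_insert hi, Finset.sum_insert hi, am_add, ih]

variable (k : Type u) [CommRing k] [X.Over (Spec (CommRingCat.of k))]

theorem am_ab (φ : M ⟶ N) (a : ℕ) (x : HV X M a) : am (ab φ) a x = HV.map k φ a x := rfl

theorem Semi.ab_smulMod {q : ℕ} {ψ : Coh.toAb M ⟶ Coh.toAb N} (h : Semi q ψ) (c : k) :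
    ab (Formal.smulMod k M c) ≫ ψ = ψ ≫ ab (Formal.smulMod k N (c ^ q)) := by
  have h1 := h.smulAb (Coh.toGlobal (X ↘ Spec (CommRingCat.of k)) c)
  rw [← map_pow] at h1
  exact h1

theorem Semi.map_smul {q : ℕ} {ψ : Coh.toAb M ⟶ Coh.toAb N} (h : Semi q ψ) (a : ℕ) (c : k) (x : HV X M a) :
    am ψ a (c • x) = c ^ q • am ψ a x := by
  rw [← HV.map_smulMod_apply, ← HV.map_smulMod_apply, ← am_ab, ← am_ab, ← am_comp, ← am_comp, h.ab_smulMod k c]

end K537
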