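import Groth.Agent.CohDim.K537.FrobIdeal
import Groth.Agent.CohDim.K537.Semi
import Groth.Agent.LoccohB.AdPn704
import Groth.Agent.Ega3B.ProjProper
import Groth.Agent.S0002
import Mathlib.LinearAlgebra.Dimension.Constructions
import Mathlib.Algebra.Order.Antidiag.Finsupp

/-!
# The transition maps `H^a(P, I^[q'] O(l)) ⟶ H^a(P, I^[q] O(l))` have bounded rank
-/

set_option autoImplicit false

universe u

open CategoryTheory CategoryTheory.Limits AlgebraicGeometry TopologicalSpace Opposite TopCat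

noncomputable section

namespace K537.Rank

open Groth.Agent Groth.Agent.CurvesC K537.Lift K537.Ops K537.PBasis K537.FrobIdeal

variable {k : Type u} [Field k] (p : ℕ) [Fact p.Prime] [ExpChar k p] {n : ℕ}
  [FrobSch.IsCharP (CohB1.ProjSpace n k) p] (I : (CohB1.ProjSpace n k).IdealSheafData)

variable (k n) in
theorem qc (c : ℤ) : Coh.IsQCoh (Twist.twistProjSpace n k c) := (LoccohB.AdPn704.isCoh_twistProjSpace n k c).1

/-- `I O(c)`. -/
abbrev K0 (c : ℤ) : (CohB1.ProjSpace n k).Modules := (Dual3.idealMul I).obj (Twist.twistProjSpace n k c)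

/-- `I^[p^e] O(l)`. -/
abbrev Ke (e : ℕ) (l : ℤ) : (CohB1.ProjSpace n k).Modules :=
  (Dual3.idealMul (frobIdeal p e I)).obj (Twist.twistProjSpace n k l)

/-- `u ↦ X^α u^(p^e)`, `I O(c) ⟶ I^[p^e] O(l)`. -/
def S' (e : ℕ) (α : Fin (n + 1) →₀ ℕ) (c l : ℤ) (h : l = (p ^ e : ℕ) * c + α.degree) :
    Coh.toAb (K0 I c) ⟶ Coh.toAb (Ke p I e l) := Lift.lift (maps_sOp p I e α c l h) (qc k n c)

/-- `u ↦ u^(p^f)`, `I O(c) ⟶ I O(l)`. -/
def F' (f : ℕ) (c l : ℤ) (h : l = (p ^ f : ℕ) * c + (0 : Fin (n + 1) →₀ ℕ).degree) :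
    Coh.toAb (K0 I c) ⟶ Coh.toAb (K0 I l) := Lift.lift (maps_frob p I f c l h) (qc k n c)

/-- The component at `X^α`. -/
def C' [PerfectRing k p] (e : ℕ) (α : Fin (n + 1) →₀ ℕ) (hα : ∀ i, α i < p ^ e) (c l : ℤ)
    (h : l = (p ^ e : ℕ) * c + α.degree) : Coh.toAb (Ke p I e l) ⟶ Coh.toAb (K0 I c) :=
  Lift.lift (maps_cOp p I e α hα c l h) (qc k n l)

/-- The transition maps. -/
abbrev tr {e e' : ℕ} (h : e ≤ e') (l : ℤ) : Ke p I e' l ⟶ Ke p I e l :=
  Dual.H367.IdMul.tr (anti p I h) (Twist.twistProjSpace n k l)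

theorem sum' [PerfectRing k p] (e : ℕ) (l : ℤ) : ∑ α : Bx (p ^ e) n l,
    (C' p I e (ex α.1) (ex_lt α.1) (dg α) l (dg_spec α) ≫ S' p I e (ex α.1) (dg α) l (dg_spec α)) = 𝟙 _ := by
  refine cancel (Dual3.idealMulι (frobIdeal p e I) (Twist.twistProjSpace n k l)) ?_
  rw [Preadditive.sum_comp, Category.id_comp]
  have h1 : ∀ α : Bx (p ^ e) n l, (C' p I e (ex α.1) (ex_lt α.1) (dg α) l (dg_spec α) ≫
      S' p I e (ex α.1) (dg α) l (dg_spec α)) ≫ ab (Dual3.idealMulι (frobIdeal p e I) (Twist.twistProjSpace n k l)) =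
      ab (Dual3.idealMulι (frobIdeal p e I) (Twist.twistProjSpace n k l)) ≫
        (cOp (k := k) p e (ex α.1) (ex_lt α.1) l (dg α) (dg_spec α) ≫ sOp p e (ex α.1) (dg α) l (dg_spec α)) := by
    intro α
    rw [Category.assoc, S', lift_ι, ← Category.assoc, C', lift_ι, Category.assoc]
  rw [Finset.sum_congr rfl fun α _ => h1 α, ← Preadditive.comp_sum, sum_op, Category.comp_id]

theorem comp' (f e : ℕ) (α : Fin (n + 1) →₀ ℕ) {c l : ℤ} (h : l = (p ^ (f + e) : ℕ) * c + α.degree)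
    (h1 : (p ^ f : ℕ) * c = (p ^ f : ℕ) * c + (0 : Fin (n + 1) →₀ ℕ).degree)
    (h2 : l = (p ^ e : ℕ) * ((p ^ f : ℕ) * c) + α.degree) :
    S' p I (f + e) α c l h ≫ ab (tr p I (Nat.le_add_left e f) l) =
      F' p I f c ((p ^ f : ℕ) * c) h1 ≫ S' p I e α ((p ^ f : ℕ) * c) l h2 := by
  refine cancel (Dual3.idealMulι (frobIdeal p e I) (Twist.twistProjSpace n k l)) ?_
  have h3 : ab (tr p I (Nat.le_add_left e f) l) ≫ ab (Dual3.idealMulι (frobIdeal p e I) (Twist.twistProjSpace n k l)) =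
      ab (Dual3.idealMulι (frobIdeal p (f + e) I) (Twist.twistProjSpace n k l)) := by
    exact ((SheafOfModules.toSheaf (CohB1.ProjSpace n k).ringCatSheaf).map_comp _ _).symm.trans
      (congrArg ab (Dual.H367.IdMul.tr_ι (anti p I (Nat.le_add_left e f)) (Twist.twistProjSpace n k l)))
  rw [Category.assoc, h3, S', lift_ι, Category.assoc, S', lift_ι, ← Category.assoc, F', lift_ι, Category.assoc,
    sOp_comp (k := k) p e f α h h1 h2]

/-! ### The rank -/

theorem semi_S' (e : ℕ) (α : Fin (n + 1) →₀ ℕ) (c l : ℤ) (h : l = (p ^ e : ℕ) * c + α.degree) :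
    Semi (p ^ e) (S' p I e α c l h) :=
  Semi.lift (fun U f t => secs_sOp_smul p e α h U f t) (maps_sOp p I e α c l h) (qc k n c)

theorem map_negative (f e : ℕ) (α : Fin (n + 1) →₀ ℕ) {c l : ℤ} (h : l = (p ^ (f + e) : ℕ) * c + α.degree) (a : ℕ)
    (hv : Subsingleton (HV (CohB1.ProjSpace n k) (K0 I ((p ^ f : ℕ) * c)) a))
    (z : HV (CohB1.ProjSpace n k) (K0 I c) a) :
    HV.map k (tr p I (Nat.le_add_left e f) l) a (am (S' p I (f + e) α c l h) a z) = 0 := by
  have h1 : ((p ^ f : ℕ) : ℤ) * c = (p ^ f : ℕ) * c + (0 : Fin (n + 1) →₀ ℕ).degree := by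
    rw [map_zero]
    push_cast
    ring
  have h2 : l = (p ^ e : ℕ) * ((p ^ f : ℕ) * c) + α.degree := by
    rw [h, pow_add]
    push_cast
    ring
  rw [← am_ab, ← am_comp, comp' p I f e α h h1 h2, am_comp, Subsingleton.elim (am (F' p I f c _ h1) a z) 0, map_zero]

theorem map_zero_mem (e' e : ℕ) (he : e ≤ e') (α : Fin (n + 1) →₀ ℕ) {c l : ℤ} (hc : c = 0)
    (h : l = (p ^ e' : ℕ) * c + α.degree) (h0 : l = (p ^ e' : ℕ) * 0 + α.degree) (a : ℕ) {ι : Type*} [Fintype ι]
    (b : ι → HV (CohB1.ProjSpace n k) (K0 I 0) a) (hb : ⊤ ≤ Submodule.span k (Set.range b))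
    (z : HV (CohB1.ProjSpace n k) (K0 I c) a) :
    HV.map k (tr p I he l) a (am (S' p I e' α c l h) a z) ∈
      Submodule.span k (Set.range fun i => HV.map k (tr p I he l) a (am (S' p I e' α 0 l h0) a (b i))) := by
  subst hc
  have hz : z ∈ Submodule.span k (Set.range b) := hb trivial
  refine Submodule.span_induction (p := fun z _ => HV.map k (tr p I he l) a (am (S' p I e' α 0 l h) a z) ∈
      Submodule.span k (Set.range fun i => HV.map k (tr p I he l) a (am (S' p I e' α 0 l h0) a (b i))))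
      ?_ ?_ ?_ ?_ hz
  · rintro _ ⟨i, rfl⟩
    exact Submodule.subset_span ⟨i, rfl⟩
  · rw [map_zero, map_zero]
    exact zero_mem _
  · intro x y _ _ hx hy
    rw [map_add, map_add]
    exact add_mem hx hy
  · intro r x _ hx
    rw [(semi_S' p I e' α 0 l h).map_smul k, map_smul]
    exact Submodule.smul_mem _ _ hx

/-- **The rank bound.** -/
theorem rank_bound [PerfectRing k p] (l : ℤ) (a : ℕ) (c₀ : ℕ)
    (hv : ∀ c : ℕ, c₀ ≤ c → Subsingleton (Coh.HH (CohB1.ProjSpace n k) (K0 I (-(c : ℤ))) a)) :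
    ∃ B : ℕ, ∀ e : ℕ, ∃ (e' : ℕ) (h : e ≤ e'), Module.finrank k (LinearMap.range
      (HV.map k (tr p I h l) a)) ≤ B := by
  have hprop : IsProper (CohB1.ProjSpace n k ↘ Spec (CommRingCat.of k)) := Ega3B.ProjProper.isProper_toSpec n k
  have hN : IsLocallyNoetherian (CohB1.ProjSpace n k) :=
    LocallyOfFiniteType.isLocallyNoetherian (CohB1.ProjSpace n k ↘ Spec (CommRingCat.of k))
  have hfin : Module.Finite k (HV (CohB1.ProjSpace n k) (K0 I 0) a) :=
    S0002.result k (CohB1.ProjSpace n k) (K0 I 0)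
      (Dual.H367.IdMul.isCoh_idealMul I (LoccohB.AdPn704.isCoh_twistProjSpace n k 0)) a
  let b := Module.finBasis k (HV (CohB1.ProjSpace n k) (K0 I 0) a)
  let A : Finset (Fin (n + 1) →₀ ℕ) := (Finset.univ : Finset (Fin (n + 1))).finsuppAntidiag l.toNat
  refine ⟨A.card * Module.finrank k (HV (CohB1.ProjSpace n k) (K0 I 0) a), fun e => ?_⟩
  let f : ℕ := max c₀ l.toNat
  have hp1 : 1 < p := (Fact.out : p.Prime).one_lt
  have hf : f < p ^ f := Nat.lt_pow_self hp1
  have hf' : p ^ f ≤ p ^ (f + e) := Nat.pow_le_pow_right hp1.le (Nat.le_add_right _ _)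
  refine ⟨f + e, Nat.le_add_left e f, ?_⟩
  classical
  -- the spanning family
  let w : A × Fin (Module.finrank k (HV (CohB1.ProjSpace n k) (K0 I 0) a)) →
      HV (CohB1.ProjSpace n k) (Ke p I e l) a := fun x =>
    if h : l = (p ^ (f + e) : ℕ) * 0 + (x.1.1).degree then
      HV.map k (tr p I (Nat.le_add_left e f) l) a (am (S' p I (f + e) x.1.1 0 l h) a (b x.2)) else 0
  have hw : LinearMap.range (HV.map k (tr p I (Nat.le_add_left e f) l) a) ≤ Submodule.span k (Set.range w) := by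
    rintro _ ⟨x, rfl⟩
    have hx : x = ∑ α : Bx (p ^ (f + e)) n l, am (S' p I (f + e) (ex α.1) (dg α) l (dg_spec α)) a
        (am (C' p I (f + e) (ex α.1) (ex_lt α.1) (dg α) l (dg_spec α)) a x) := by
      have h1 : am (∑ α : Bx (p ^ (f + e)) n l, (C' p I (f + e) (ex α.1) (ex_lt α.1) (dg α) l (dg_spec α) ≫
          S' p I (f + e) (ex α.1) (dg α) l (dg_spec α))) a x = x := by
        rw [sum', am_id]
      rw [am_sum] at h1
      exact h1.symm.trans (Finset.sum_congr rfl fun α _ => am_comp _ _ _ _)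
    rw [hx, map_sum]
    refine Submodule.sum_mem _ fun α _ => ?_
    set z := am (C' p I (f + e) (ex α.1) (ex_lt α.1) (dg α) l (dg_spec α)) a x
    rcases lt_or_ge (dg α) 0 with hneg | hpos
    · rw [map_negative]
      · exact zero_mem _
      · have h2 : ∃ c : ℕ, c₀ ≤ c ∧ ((p ^ f : ℕ) : ℤ) * dg α = -(c : ℤ) := by
          refine ⟨p ^ f * (-(dg α)).toNat, ?_, ?_⟩
          · have h3 : 1 ≤ (-(dg α)).toNat := by omega
            calc c₀ ≤ f := le_max_left _ _
              _ ≤ p ^ f := hf.le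
              _ = p ^ f * 1 := (mul_one _).symm
              _ ≤ _ := Nat.mul_le_mul_left _ h3
          · have h3 : ((-(dg α)).toNat : ℤ) = -(dg α) := by omega
            push_cast
            rw [h3]
            ring
        obtain ⟨c, hc, h3⟩ := h2
        rw [h3]
        exact hv c hc
    · have h4 := dg_spec α
      have h5 : dg α = 0 := by
        by_contra hne
        have h6 : 1 ≤ dg α := by omega
        have h7 : ((p ^ (f + e) : ℕ) : ℤ) * 1 ≤ ((p ^ (f + e) : ℕ) : ℤ) * dg α :=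
          mul_le_mul_of_nonneg_left h6 (by positivity)
        have h8 : l < (p ^ (f + e) : ℕ) := by
          have h9 : l.toNat ≤ f := le_max_right _ _
          have h10 : l.toNat < p ^ (f + e) := by omega
          omega
        omega
      have h0 : l = (p ^ (f + e) : ℕ) * 0 + (ex α.1).degree := by
        rw [h5] at h4
        exact h4
      refine Submodule.span_mono ?_ (map_zero_mem p I (f + e) e (Nat.le_add_left e f) (ex α.1) h5 h4 h0 a b
        b.span_eq.ge z)
      rintro _ ⟨i, rfl⟩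
      have hA : ex α.1 ∈ A := by
        rw [Finset.mem_finsuppAntidiag]
        refine ⟨?_, Finset.subset_univ _⟩
        rw [← Finsupp.degree_eq_sum]
        omega
      refine ⟨(⟨ex α.1, hA⟩, i), ?_⟩
      change dite _ _ _ = _
      rw [dif_pos h0]
  have hfs : Module.Finite k (Submodule.span k (Set.range w)) := FiniteDimensional.span_of_finite k (Set.finite_range w)
  refine (Submodule.finrank_mono hw).trans ?_
  refine (finrank_range_le_card w).trans ?_
  rw [Fintype.card_prod, Fintype.card_coe, Fintype.card_fin]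

end K537.Rank
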